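import Groth.Agent.Lib.Thickening.Affine
import Mathlib.AlgebraicGeometry.Morphisms.Integral
import Mathlib.AlgebraicGeometry.Morphisms.UniversallyInjective
import Mathlib.AlgebraicGeometry.Morphisms.UniversallyOpen

/-!
# Properties of morphisms between thickenings
-/

universe u

open CategoryTheory Limits AlgebraicGeometry

namespace GrothLib.Thickening

variable {W X Y S Z : Scheme.{u}}

/-- A property stable under base change cancels a monomorphism on the right. -/
lemma of_comp_mono (P : MorphismProperty Scheme.{u}) [P.IsStableUnderBaseChange] (f : X ⟶ S)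
    (i : S ⟶ Y) [Mono i] (h : P (f ≫ i)) : P f :=
  MorphismProperty.of_isPullback (P := P) (FSchSys.isPullback_of_comp_eq (a := f) (i := i) rfl).flip h

lemma quasiCompact_of_comp_surjective (i : W ⟶ X) (f : X ⟶ Y) [Surjective i]
    [QuasiCompact (i ≫ f)] : QuasiCompact f := by
  refine ⟨fun U hUo hUc => ?_⟩
  have h := QuasiCompact.isCompact_preimage (f := i ≫ f) U hUo hUc
  have := h.image i.continuous
  rwa [Scheme.Hom.comp_base, TopCat.coe_comp, Set.preimage_comp,
    Set.image_preimage_eq _ i.surjective] at this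

lemma universallyOpen_of_surjective (i : W ⟶ X) [IsClosedImmersion i] [Surjective i] :
    UniversallyOpen i := by
  constructor
  intro X' Y' i₁ i₂ f' H
  have hc : IsClosedImmersion f' := MorphismProperty.of_isPullback (P := @IsClosedImmersion) H.flip ‹_›
  have hs : Surjective f' := MorphismProperty.of_isPullback (P := @Surjective) H.flip ‹_›
  exact (f'.isClosedEmbedding.isEmbedding.toHomeomorphOfSurjective f'.surjective).isOpenMap

lemma universallyOpen_of_comp_surjective (i : W ⟶ X) (f : X ⟶ Y) [UniversallyOpen (i ≫ f)]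
    [Surjective i] : UniversallyOpen f := by
  constructor
  intro X' Y' i₁ i₂ f' H
  have h := UniversallyOpen.universally_isOpenMap (f := i ≫ f) _ _ _
    ((IsPullback.of_hasPullback i₁ i).paste_horiz H)
  intro U hU
  have hs := (MorphismProperty.pullback_fst (P := @Surjective) i₁ i ‹_›).surj
  have := h _ (hU.preimage (pullback.fst i₁ i).continuous)
  rwa [Scheme.Hom.comp_base, TopCat.coe_comp, Set.image_comp,
    Set.image_preimage_eq _ hs] at this

lemma diagonal_comp (i : W ⟶ X) (f : X ⟶ Y) :
    i ≫ pullback.diagonal f = pullback.diagonal (i ≫ f) ≫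
      pullback.map (i ≫ f) (i ≫ f) f f i i (𝟙 _) (by simp) (by simp) := by
  apply pullback.hom_ext
  · simp [pullback.map]
    erw [pullback.lift_fst, pullback.diagonal_fst_assoc]
  · simp [pullback.map]
    erw [pullback.lift_snd, pullback.diagonal_snd_assoc]

variable (i : W ⟶ X) [IsClosedImmersion i] [Surjective i] (f : X ⟶ Y)

lemma isAffineHom_comp_iff : IsAffineHom (i ≫ f) ↔ IsAffineHom f := by
  refine ⟨fun _ => ⟨fun U hU => ?_⟩, fun _ => inferInstance⟩
  have : IsAffine (i ⁻¹ᵁ f ⁻¹ᵁ U).toScheme := hU.preimage (i ≫ f)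
  have : IsClosedImmersion (i ∣_ f ⁻¹ᵁ U) := IsZariskiLocalAtTarget.restrict ‹_› _
  have : Surjective (i ∣_ f ⁻¹ᵁ U) := IsZariskiLocalAtTarget.restrict (P := @Surjective) ‹_› _
  exact isAffine_of_thickening (i ∣_ f ⁻¹ᵁ U)

lemma quasiCompact_comp_iff : QuasiCompact (i ≫ f) ↔ QuasiCompact f :=
  ⟨fun _ => quasiCompact_of_comp_surjective i f, fun _ => inferInstance⟩

lemma universallyClosed_comp_iff : UniversallyClosed (i ≫ f) ↔ UniversallyClosed f :=
  ⟨fun _ => UniversallyClosed.of_comp_surjective i f, fun _ => inferInstance⟩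

lemma isIntegralHom_comp_iff : IsIntegralHom (i ≫ f) ↔ IsIntegralHom f := by
  rw [IsIntegralHom.iff_universallyClosed_and_isAffineHom,
    IsIntegralHom.iff_universallyClosed_and_isAffineHom, universallyClosed_comp_iff,
    isAffineHom_comp_iff]

lemma universallyOpen_comp_iff : UniversallyOpen (i ≫ f) ↔ UniversallyOpen f :=
  ⟨fun _ => universallyOpen_of_comp_surjective i f, fun _ => by
    have := universallyOpen_of_surjective i
    exact MorphismProperty.comp_mem _ _ _ ‹_› ‹_›⟩

lemma quasiSeparated_comp_iff : QuasiSeparated (i ≫ f) ↔ QuasiSeparated f := by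
  refine ⟨fun _ => ⟨?_⟩, fun _ => inferInstance⟩
  let m := pullback.map (i ≫ f) (i ≫ f) f f i i (𝟙 _) (by simp) (by simp)
  have : IsClosedImmersion m :=
    MorphismProperty.pullbackMap (P := @IsClosedImmersion) ‹_› ‹_› (by simp) (by simp)
  have : QuasiCompact (i ≫ pullback.diagonal f) := by rw [diagonal_comp]; infer_instance
  exact quasiCompact_of_comp_surjective i _

lemma universallyInjective_comp_iff : UniversallyInjective (i ≫ f) ↔ UniversallyInjective f := by
  refine ⟨fun h => ?_, fun _ => MorphismProperty.comp_mem _ _ _ inferInstance ‹_›⟩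
  rw [UniversallyInjective.iff_diagonal] at h ⊢
  let m := pullback.map (i ≫ f) (i ≫ f) f f i i (𝟙 _) (by simp) (by simp)
  have : Surjective m :=
    MorphismProperty.pullbackMap (P := @Surjective) ‹_› ‹_› (by simp) (by simp)
  have : Surjective (i ≫ pullback.diagonal f) := by rw [diagonal_comp]; infer_instance
  exact (Surjective.comp_iff i _).mp this

end GrothLib.Thickening
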