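import Groth.Agent.Lib.Thickening.Basic
import Mathlib.AlgebraicGeometry.IdealSheaf.Functorial
import Mathlib.AlgebraicGeometry.Morphisms.Separated
import Mathlib.RingTheory.Localization.Ideal

/-!
# Ideal sheaves of finite type containing given sections

On a scheme covered by finitely many affine opens whose pairwise intersections are basic opens, every
finite family of sections of an ideal sheaf `K` lies in a sub-ideal sheaf which is of finite type on
each member of the cover.
-/

universe u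

open CategoryTheory Limits AlgebraicGeometry Opposite TopologicalSpace

namespace GrothLib.Thickening

variable {Y : Scheme.{u}}

/-- The closed subscheme of an affine open cut out by an ideal of its sections. -/
noncomputable def subFrom (U : Y.affineOpens) (P : Ideal Γ(Y, U.1)) :
    Spec (CommRingCat.of (Γ(Y, U.1) ⧸ P)) ⟶ Y :=
  Spec.map (CommRingCat.ofHom (Ideal.Quotient.mk P)) ≫ U.2.fromSpec

lemma preimage_subFrom (U : Y.affineOpens) (P : Ideal Γ(Y, U.1)) : subFrom U P ⁻¹ᵁ U.1 = ⊤ := by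
  rw [subFrom, Scheme.Hom.comp_preimage, U.2.fromSpec_preimage_self]
  rfl

lemma app_subFrom_eq_zero_iff (U : Y.affineOpens) (P : Ideal Γ(Y, U.1)) (x : Γ(Y, U.1)) :
    (subFrom U P).app U.1 x = 0 ↔ x ∈ P := by
  let S := Spec (CommRingCat.of (Γ(Y, U.1) ⧸ P))
  have hb : Function.Bijective ((Scheme.ΓSpecIso (CommRingCat.of (Γ(Y, U.1) ⧸ P))).inv ≫
      S.presheaf.map (eqToHom (preimage_subFrom U P)).op) :=
    ConcreteCategory.bijective_of_isIso _
  have e : (subFrom U P).app U.1 = CommRingCat.ofHom (Ideal.Quotient.mk P) ≫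
      (Scheme.ΓSpecIso (CommRingCat.of (Γ(Y, U.1) ⧸ P))).inv ≫
      S.presheaf.map (eqToHom (preimage_subFrom U P)).op := by
    rw [Scheme.ΓSpecIso_inv_naturality_assoc]
    simp only [subFrom, Scheme.Hom.comp_app, U.2.fromSpec_app_self, Category.assoc,
      Scheme.Hom.appTop]
    congr 1
    first | done | exact (Spec.map (CommRingCat.ofHom (Ideal.Quotient.mk P))).naturality _
  rw [e]
  rw [CategoryTheory.comp_apply]
  exact (map_eq_zero_iff _ hb.1).trans Ideal.Quotient.eq_zero_iff_mem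

/-- Replace `M` on one affine open by a finitely generated ideal, keeping given sections. -/
lemma exists_le_fg [Y.IsSeparated] (M : Y.IdealSheafData) (U : Y.affineOpens) {κ : Type*}
    [Fintype κ] (V : κ → Y.affineOpens)
    (hL : ∀ j, ∃ f : Γ(Y, U.1), U.1 ⊓ (V j).1 = Y.basicOpen f)
    (E : ∀ j, Finset Γ(Y, (V j).1)) (hE : ∀ j, (E j : Set Γ(Y, (V j).1)) ⊆ M.ideal (V j))
    (D : Finset Γ(Y, U.1)) (hD : (D : Set Γ(Y, U.1)) ⊆ M.ideal U) :
    ∃ M' ≤ M, (M'.ideal U).FG ∧ (D : Set Γ(Y, U.1)) ⊆ M'.ideal U ∧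
      ∀ j, (E j : Set Γ(Y, (V j).1)) ⊆ M'.ideal (V j) := by
  classical
  choose f hf using hL
  -- numerators of the restrictions
  have hnum : ∀ j (x : E j), ∃ (d : Γ(Y, U.1)) (n : ℕ), d ∈ M.ideal U ∧
      res (inf_le_right (a := U.1)) x.1 * res (inf_le_left (b := (V j).1)) (f j) ^ n =
        res inf_le_left d := by
    intro j x
    have hW : IsAffineOpen (U.1 ⊓ (V j).1) := hf j ▸ U.2.basicOpen _
    have hx : res (inf_le_right (a := U.1)) x.1 ∈
        (M.ideal U).map (res (inf_le_left (b := (V j).1))) := by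
      have h1 := Ideal.mem_map_of_mem (res (inf_le_right (a := U.1))) (hE j x.2)
      have e1 := M.map_ideal (U := ⟨_, hW⟩) (V := V j) (show U.1 ⊓ (V j).1 ≤ (V j).1 from inf_le_right)
      have e2 := M.map_ideal (U := ⟨_, hW⟩) (V := U) (show U.1 ⊓ (V j).1 ≤ U.1 from inf_le_left)
      exact (e1.trans e2.symm).le h1
    let := (res (inf_le_left (a := U.1) (b := (V j).1))).toAlgebra
    have : IsLocalization.Away (f j) Γ(Y, U.1 ⊓ (V j).1) :=
      U.2.isLocalization_of_eq_basicOpen (f j) (homOfLE inf_le_left) (hf j)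
    obtain ⟨⟨d, ⟨_, n, rfl⟩⟩, hd⟩ :=
      (IsLocalization.mem_map_algebraMap_iff (Submonoid.powers (f j)) _).mp hx
    exact ⟨d.1, n, d.2, by rw [← map_pow]; exact hd⟩
  choose d n hd hdn using hnum
  let P : Ideal Γ(Y, U.1) := Ideal.span
    (↑(D ∪ Finset.univ.biUnion fun j => Finset.univ.image (d j)) : Set Γ(Y, U.1))
  have hPM : P ≤ M.ideal U := Ideal.span_le.mpr fun x hx => by
    simp only [Finset.coe_union, Finset.coe_biUnion, Finset.coe_image, Set.mem_union,
      Set.mem_iUnion, Set.mem_image] at hx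
    rcases hx with hx | ⟨j, -, y, -, rfl⟩
    · exact hD hx
    · exact hd j y
  have : IsAffineHom (subFrom U P ≫ terminal.from Y) := isAffineHom_of_isAffine _
  have : IsAffineHom (subFrom U P) := IsAffineHom.of_comp _ (terminal.from Y)
  refine ⟨M ⊓ (subFrom U P).ker, inf_le_left, ?_, ?_, fun j x hx => ⟨hE j hx, ?_⟩⟩
  · suffices h : (M ⊓ (subFrom U P).ker).ideal U = P by rw [h]; exact ⟨_, rfl⟩
    rw [Scheme.IdealSheafData.ideal_inf, Pi.inf_apply, Scheme.Hom.ker_apply]
    refine le_antisymm (fun x hx => (app_subFrom_eq_zero_iff U P x).mp hx.2)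
      (le_inf hPM fun x hx => (app_subFrom_eq_zero_iff U P x).mpr hx)
  · intro x hx
    refine ⟨hD hx, ?_⟩
    rw [Scheme.Hom.ker_apply, SetLike.mem_coe, RingHom.mem_ker]
    exact (app_subFrom_eq_zero_iff U P x).mpr (Ideal.subset_span (by simp [Finset.mem_coe.mp hx]))
  · rw [Scheme.Hom.ker_apply, SetLike.mem_coe, RingHom.mem_ker]
    let φ := subFrom U P
    have hdP : φ.app U.1 (d j ⟨x, hx⟩) = 0 := (app_subFrom_eq_zero_iff U P _).mpr
      (Ideal.subset_span (by simp only [Finset.coe_union, Finset.coe_biUnion, Finset.coe_image,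
        Set.mem_union, Set.mem_iUnion, Set.mem_image]; exact Or.inr ⟨j, by simp, ⟨x, hx⟩, by simp, rfl⟩))
    have h0 : φ.app (U.1 ⊓ (V j).1) (res inf_le_right x) = 0 := by
      have hu : IsUnit (res (inf_le_left (b := (V j).1)) (f j)) := by
        have := Y.toRingedSpace.isUnit_res_basicOpen (f j)
        have hle : U.1 ⊓ (V j).1 ≤ Y.basicOpen (f j) := (hf j).le
        have := this.map (res hle)
        rw [← res_res (Y.basicOpen_le (f j)) hle]
        exact this
      have h1 := congrArg (φ.app (U.1 ⊓ (V j).1)).hom (hdn j ⟨x, hx⟩)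
      rw [map_mul, app_res φ inf_le_left (d j ⟨x, hx⟩), hdP, map_zero] at h1
      exact ((hu.pow _).map (φ.app (U.1 ⊓ (V j).1)).hom).mul_left_eq_zero.mp h1
    rw [app_res] at h0
    have hV : φ ⁻¹ᵁ (V j).1 ≤ φ ⁻¹ᵁ (U.1 ⊓ (V j).1) := fun z hz =>
      ⟨by have := (preimage_subFrom U P).ge (show z ∈ ⊤ from trivial); exact this, hz⟩
    have := congrArg (res hV) h0
    rwa [res_res, res_self, map_zero] at this

/-- A sub-ideal sheaf of finite type on the cover, containing given sections. -/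
lemma exists_fg_le [Y.IsSeparated] {ι : Type*} [Fintype ι] (U : ι → Y.affineOpens)
    (hL : ∀ k m, ∃ f : Γ(Y, (U k).1), (U k).1 ⊓ (U m).1 = Y.basicOpen f)
    (K : Y.IdealSheafData) (D : ∀ k, Finset Γ(Y, (U k).1))
    (hD : ∀ k, (D k : Set Γ(Y, (U k).1)) ⊆ K.ideal (U k)) :
    ∃ M ≤ K, (∀ k, (M.ideal (U k)).FG) ∧ ∀ k, (D k : Set Γ(Y, (U k).1)) ⊆ M.ideal (U k) := by
  classical
  suffices h : ∀ s : Finset ι, ∃ M ≤ K, (∀ k ∈ s, (M.ideal (U k)).FG) ∧
      ∀ k, (D k : Set Γ(Y, (U k).1)) ⊆ M.ideal (U k) by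
    obtain ⟨M, hM, h1, h2⟩ := h Finset.univ
    exact ⟨M, hM, fun k => h1 k (Finset.mem_univ k), h2⟩
  intro s
  induction s using Finset.induction with
  | empty => exact ⟨K, le_rfl, by simp, hD⟩
  | insert k s hk ih =>
    obtain ⟨M, hMK, hfg, hDM⟩ := ih
    choose G hG using fun m (hm : m ∈ s) => hfg m hm
    let E : ∀ m, Finset Γ(Y, (U m).1) := fun m => if hm : m ∈ s then G m hm ∪ D m else D m
    have hE : ∀ m, (E m : Set Γ(Y, (U m).1)) ⊆ M.ideal (U m) := fun m => by
      by_cases hm : m ∈ s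
      · simp only [E, dif_pos hm, Finset.coe_union, Set.union_subset_iff]
        exact ⟨(hG m hm) ▸ Ideal.subset_span, hDM m⟩
      · simp only [E, dif_neg hm]; exact hDM m
    obtain ⟨M', hM', hfgU, -, hEM⟩ := exists_le_fg M (U k) U (hL k) E hE (D k) (hDM k)
    refine ⟨M', hM'.trans hMK, fun m hm => ?_, fun m x hx => hEM m ?_⟩
    · rcases Finset.mem_insert.mp hm with rfl | hms
      · exact hfgU
      · have : M'.ideal (U m) = M.ideal (U m) := le_antisymm (hM' _) (by
          rw [← hG m hms]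
          refine Ideal.span_le.mpr fun x hx => hEM m ?_
          simp [E, dif_pos hms, Finset.mem_coe.mp hx])
        exact this ▸ hfg m hms
    · by_cases hm : m ∈ s
      · simp [E, dif_pos hm, Finset.mem_coe.mp hx]
      · simp [E, dif_neg hm, Finset.mem_coe.mp hx]

end GrothLib.Thickening
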