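import Groth.Agent.Lib.Thickening.Nilpotent
import Groth.Agent.Lib.Thickening.FgIdeal
import Groth.Agent.Lib.FSchSys.Descent
import Mathlib.RingTheory.Noetherian.Nilpotent

/-!
# Thickenings of affine schemes are affine
-/

universe u

open CategoryTheory Limits AlgebraicGeometry Opposite TopologicalSpace

namespace GrothLib.Thickening

variable {Y Z : Scheme.{u}}

lemma isSeparated_of_thickening (t : Z ⟶ Y) [IsClosedImmersion t] [Surjective t] [IsAffine Z] :
    Y.IsSeparated :=
  ⟨(FSchSys.isSeparated_iff_of_thickening (f := terminal.from Y) (f₀ := terminal.from Z)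
    (iX := t) (iY := 𝟙 _) (by simp)).mpr inferInstance⟩

lemma le_nilradical_of_thickening (t : Z ⟶ Y) [IsClosedImmersion t] [Surjective t]
    (U : Y.affineOpens) : t.ker.ideal U ≤ nilradical Γ(Y, U.1) := by
  have hs : (t.ker.support : Set Y) = Set.univ := by
    rw [Scheme.Hom.support_ker, Set.range_eq_univ.mpr t.surjective, closure_univ]
  have h1 : Y.zeroLocus (U := U.1) (t.ker.ideal U : Set Γ(Y, U.1)) = Set.univ := by
    rw [← Set.univ_subset_iff]
    intro y _
    by_cases hy : y ∈ U.1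
    · exact ((Scheme.IdealSheafData.coe_support_inter _ U).le ⟨hs.ge trivial, hy⟩).1
    · rw [Scheme.mem_zeroLocus_iff]
      exact fun s _ hm => hy (Y.basicOpen_le s hm)
  rw [Scheme.zeroLocus_eq_univ_iff_subset_nilradical_of_isCompact U.2.isCompact] at h1
  exact h1

lemma pow_eq_bot_of_le {ι : Type*} [Fintype ι] (U : ι → Y.affineOpens)
    (hU : ⨆ k, (U k).1 = ⊤) (M : Y.IdealSheafData) (hfg : ∀ k, (M.ideal (U k)).FG)
    (hnil : ∀ k, M.ideal (U k) ≤ nilradical Γ(Y, (U k).1)) : ∃ n, M ^ n = ⊥ := by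
  choose n hn using fun k => (hfg k).isNilpotent_iff_le_nilradical.mpr (hnil k)
  refine ⟨∑ k, n k, Scheme.IdealSheafData.ext_of_iSup_eq_top U hU fun k => ?_⟩
  simp only [Scheme.IdealSheafData.ideal_pow, Pi.pow_apply, Scheme.IdealSheafData.ideal_bot,
    Pi.bot_apply]
  refine le_bot_iff.mp ((Ideal.pow_le_pow_right ?_).trans (hn k).le)
  exact Finset.single_le_sum (fun i _ => Nat.zero_le (n i)) (Finset.mem_univ k)

set_option maxHeartbeats 800000 in
/-- A scheme receiving a surjective closed immersion from an affine scheme is affine. -/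
lemma isAffine_of_thickening (t : Z ⟶ Y) [IsClosedImmersion t] [Surjective t] [IsAffine Z] :
    IsAffine Y := by
  classical
  have := isSeparated_of_thickening t
  obtain ⟨ι, _, U, h, hspan, hU⟩ := exists_setup t
  have hcov := le_iSup_of_setup t hspan hU
  obtain ⟨a, ha⟩ : ∃ a : ι → Γ(Z, ⊤), ∑ l, a l * h l = 1 := by
    rw [← Ideal.mem_span_range_iff_exists_fun, hspan]; trivial
  let g : ι ⊕ ι → Γ(Z, ⊤) := Sum.elim h a
  choose G hG using fun k j => t.app_surjective (U k).1 (U k).2 (res (U := ⊤) le_top (g j))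
  have hW : ∀ k m, (U k).1 ⊓ (U m).1 = Y.basicOpen (G k (.inl m)) := fun k m => by
    apply preimage_injective t
    rw [Scheme.preimage_basicOpen, hG, basicOpen_res']
    simp only [g, Sum.elim_inl, ← hU m]
    rfl
  let r : ∀ k, Γ(Y, (U k).1) := fun k => ∑ l, G k (.inr l) * G k (.inl l) - 1
  have hr : ∀ k, r k ∈ t.ker.ideal (U k) := fun k => by
    rw [Scheme.Hom.ker_apply, RingHom.mem_ker]
    simp only [r, map_sub, map_sum, map_mul, map_one]
    erw [Finset.sum_congr rfl fun l _ => congrArg₂ (· * ·) (hG k (.inr l)) (hG k (.inl l))]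
    simp only [g, Sum.elim_inl, Sum.elim_inr, ← map_mul, ← map_sum, ha, map_one, sub_self]
  -- numerators of the differences of the local lifts
  have hdiff : ∀ k m j, ∃ (d : Γ(Y, (U k).1)) (n : ℕ), d ∈ t.ker.ideal (U k) ∧
      (res (inf_le_left (b := (U m).1)) (G k j) - res (inf_le_right (a := (U k).1)) (G m j)) *
        res (inf_le_left (b := (U m).1)) (G k (.inl m)) ^ n = res inf_le_left d := by
    intro k m j
    have hWa : IsAffineOpen ((U k).1 ⊓ (U m).1) := hW k m ▸ (U k).2.basicOpen _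
    have hc : res (inf_le_left (b := (U m).1)) (G k j) - res (inf_le_right (a := (U k).1)) (G m j) ∈
        (t.ker.ideal (U k)).map (res (inf_le_left (b := (U m).1))) := by
      refine (t.ker.map_ideal (U := ⟨_, hWa⟩) (V := U k)
        (show (U k).1 ⊓ (U m).1 ≤ (U k).1 from inf_le_left)).ge ?_
      rw [Scheme.Hom.ker_apply, RingHom.mem_ker]
      simp only [map_sub, app_res, hG, res_res, sub_self]
    let := (res (inf_le_left (a := (U k).1) (b := (U m).1))).toAlgebra
    have : IsLocalization.Away (G k (.inl m)) Γ(Y, (U k).1 ⊓ (U m).1) :=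
      (U k).2.isLocalization_of_eq_basicOpen _ (homOfLE inf_le_left) (hW k m)
    obtain ⟨⟨d, ⟨_, n, rfl⟩⟩, hd⟩ :=
      (IsLocalization.mem_map_algebraMap_iff (Submonoid.powers (G k (.inl m))) _).mp hc
    exact ⟨d.1, n, d.2, by rw [← map_pow]; exact hd⟩
  choose d n hdK hdn using hdiff
  let D : ∀ k, Finset Γ(Y, (U k).1) := fun k =>
    insert (r k) (Finset.univ.image fun p : ι × (ι ⊕ ι) => d k p.1 p.2)
  obtain ⟨M, hMK, hfg, hDM⟩ := exists_fg_le U (fun k m => ⟨_, hW k m⟩) t.ker D fun k x hx => by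
    simp only [D, Finset.coe_insert, Finset.coe_image, Set.mem_insert_iff, Set.mem_image] at hx
    rcases hx with rfl | ⟨p, -, rfl⟩
    · exact hr k
    · exact hdK _ _ _
  obtain ⟨N, hN⟩ := pow_eq_bot_of_le (fun k => U k) (eq_top_iff.mpr hcov) M hfg
    fun k => (hMK _).trans (le_nilradical_of_thickening t _)
  -- the intermediate thickening `Z ⟶ V(M)`
  let i := M.subschemeι
  let s : Z ⟶ M.subscheme := t.toImage ≫ Scheme.IdealSheafData.inclusion hMK
  have hs : s ≫ i = t := by
    simp only [s, i, Category.assoc, Scheme.IdealSheafData.inclusion_subschemeι]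
    exact t.toImage_imageι
  have : Surjective s := ⟨fun z => by
    obtain ⟨w, hw⟩ := t.surjective (i z)
    refine ⟨w, i.isClosedEmbedding.injective ?_⟩
    rw [← hw, ← Scheme.Hom.comp_apply, hs]⟩
  have hkM : ∀ {W : Y.Opens} (hW : IsAffineOpen W) (x : Γ(Y, W)),
      x ∈ M.ideal ⟨W, hW⟩ → i.app W x = 0 := fun hW x hx => by
    rwa [← M.ker_subschemeι_app] at hx
  have hglue : ∀ j, ∃ x : Γ(M.subscheme, ⊤), ∀ k, res le_top x = i.app (U k).1 (G k j) := by
    intro j
    have hcompat : TopCat.Presheaf.IsCompatible M.subscheme.presheaf (fun k => i ⁻¹ᵁ (U k).1)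
        (fun k => i.app (U k).1 (G k j)) := fun k m => by
      have hWa : IsAffineOpen ((U k).1 ⊓ (U m).1) := hW k m ▸ (U k).2.basicOpen _
      have hc : i.app _ (res (inf_le_left (b := (U m).1)) (G k j) -
          res (inf_le_right (a := (U k).1)) (G m j)) = 0 := by
        refine hkM hWa _ ?_
        have hu : IsUnit (res (inf_le_left (b := (U m).1)) (G k (.inl m))) := by
          have := (Y.toRingedSpace.isUnit_res_basicOpen (G k (.inl m))).map (res (hW k m).le)
          rw [← res_res (Y.basicOpen_le _) (hW k m).le]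
          exact this
        refine ((M.ideal ⟨_, hWa⟩).mul_unit_mem_iff_mem (hu.pow (n k m j))).mp ?_
        rw [hdn k m j]
        refine (M.map_ideal (U := ⟨_, hWa⟩) (V := U k)
          (show (U k).1 ⊓ (U m).1 ≤ (U k).1 from inf_le_left)).le (Ideal.mem_map_of_mem _ (hDM k ?_))
        simp only [D, Finset.coe_insert, Finset.coe_image, Set.mem_insert_iff, Set.mem_image]
        exact Or.inr ⟨(m, j), by simp, rfl⟩
      rw [map_sub, sub_eq_zero, app_res, app_res] at hc
      exact hc
    obtain ⟨x, hx, -⟩ := TopCat.Sheaf.existsUnique_gluing' M.subscheme.sheaf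
      (fun k => i ⁻¹ᵁ (U k).1) ⊤ (fun k => homOfLE le_top)
      (fun z _ => by
        obtain ⟨k, hk⟩ := Opens.mem_iSup.mp (hcov (show i z ∈ ⊤ from trivial))
        exact Opens.mem_iSup.mpr ⟨k, hk⟩) _ hcompat
    exact ⟨x, hx⟩
  choose x hx using hglue
  have hcovM : (⊤ : M.subscheme.Opens) ≤ ⨆ k, i ⁻¹ᵁ (U k).1 := fun z _ => by
    obtain ⟨k, hk⟩ := Opens.mem_iSup.mp (hcov (show i z ∈ ⊤ from trivial))
    exact Opens.mem_iSup.mpr ⟨k, hk⟩
  have : IsAffine M.subscheme := by
    refine isAffine_of_lifts s (U := fun k => ⟨i ⁻¹ᵁ (U k).1, (U k).2.preimage i⟩)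
      (fun l => x (.inl l)) (fun l => x (.inr l)) ?_ fun l => ?_
    · suffices e : ∑ l, x (.inr l) * x (.inl l) = 1 by rw [e]; exact isUnit_one
      refine TopCat.Sheaf.eq_of_locally_eq' M.subscheme.sheaf (fun k => i ⁻¹ᵁ (U k).1) ⊤
        (fun k => homOfLE le_top) hcovM _ _ fun k => ?_
      change res le_top _ = res le_top _
      simp only [map_sum, map_mul, map_one, hx]
      rw [← sub_eq_zero]
      have := hkM (U k).2 (r k) (hDM k (by simp [D]))
      simpa [r] using this
    · change Z.basicOpen (s.appTop (x (.inl l))) = (s ≫ i) ⁻¹ᵁ (U l).1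
      rw [hs, hU l]
      suffices e : s.appTop (x (.inl l)) = h l by rw [e]
      refine TopCat.Sheaf.eq_of_locally_eq' Z.sheaf (fun k => t ⁻¹ᵁ (U k).1) ⊤
        (fun k => homOfLE le_top) ?_ _ _ fun k => ?_
      · intro z _
        obtain ⟨k, hk⟩ := Opens.mem_iSup.mp (hcov (show t z ∈ ⊤ from trivial))
        exact Opens.mem_iSup.mpr ⟨k, hk⟩
      · change res le_top _ = res le_top _
        have e1 := congrArg (s.app (i ⁻¹ᵁ (U k).1)) (hx (.inl l) k)
        rw [app_res] at e1
        have e2 := Scheme.Hom.congr_app hs (U k).1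
        have e3 : s.app (i ⁻¹ᵁ (U k).1) (i.app (U k).1 (G k (.inl l))) =
            res (by rw [← Scheme.Hom.comp_preimage, hs]) (t.app (U k).1 (G k (.inl l))) := by
          change (i.app (U k).1 ≫ s.app _) _ = _
          rw [← Scheme.Hom.comp_app, e2]
          rfl
        rw [hG, res_res] at e3
        have e4 := congrArg (res (show t ⁻¹ᵁ (U k).1 ≤ s ⁻¹ᵁ i ⁻¹ᵁ (U k).1 by
          rw [← Scheme.Hom.comp_preimage, hs])) (e1.trans e3)
        rw [res_res, res_res] at e4
        exact e4
  exact isAffine_of_pow_eq_bot i (n := N) (by rw [M.ker_subschemeι, hN])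

end GrothLib.Thickening
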