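import Mathlib.AlgebraicGeometry.Morphisms.ClosedImmersion
import Mathlib.AlgebraicGeometry.Morphisms.Affine
import Mathlib.Topology.Sheaves.SheafCondition.UniqueGluing

/-!
# Thickenings: lifting set-up

For a surjective closed immersion `t : Z ⟶ Y` with affine `Z`, a cover of `Y` by affine opens
corresponding to basic opens of `Z`, and the criterion to deduce that `Y` is affine.
-/

universe u

open CategoryTheory Limits AlgebraicGeometry Opposite TopologicalSpace

namespace GrothLib.Thickening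

variable {X Y Z : Scheme.{u}}

/-- Restriction of sections, as a ring map. -/
abbrev res {U V : X.Opens} (h : V ≤ U) : Γ(X, U) →+* Γ(X, V) := (X.presheaf.map (homOfLE h).op).hom

lemma res_res {U V W : X.Opens} (h : V ≤ U) (h' : W ≤ V) (x : Γ(X, U)) :
    res h' (res h x) = res (h'.trans h) x := by
  change (X.presheaf.map _ ≫ X.presheaf.map _) x = _
  rw [← X.presheaf.map_comp]; rfl

lemma res_self {U : X.Opens} (h : U ≤ U) (x : Γ(X, U)) : res h x = x := by
  change X.presheaf.map _ x = _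
  rw [show (homOfLE h).op = 𝟙 (op U) from rfl, X.presheaf.map_id]; rfl

lemma app_res (t : Z ⟶ Y) {U V : Y.Opens} (h : V ≤ U) (x : Γ(Y, U)) :
    t.app V (res h x) = res (t.preimage_mono h) (t.app U x) := by
  change (Y.presheaf.map _ ≫ t.app V) x = (t.app U ≫ Z.presheaf.map _) x
  rw [t.naturality]; rfl

lemma basicOpen_res' {U V : X.Opens} (h : V ≤ U) (f : Γ(X, U)) :
    X.basicOpen (res h f) = V ⊓ X.basicOpen f :=
  X.basicOpen_res f (homOfLE h).op

lemma preimage_injective (t : Z ⟶ Y) [Surjective t] {U V : Y.Opens} (h : t ⁻¹ᵁ U = t ⁻¹ᵁ V) :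
    U = V := by
  ext y
  obtain ⟨z, rfl⟩ := t.surjective y
  exact SetLike.ext_iff.mp h z

/-- Sections over a basic open of an affine open are fractions. -/
lemma exists_res_mul {U W : X.Opens} (hU : IsAffineOpen U) (f : Γ(X, U)) (hW : W = X.basicOpen f)
    (h : W ≤ U) (c : Γ(X, W)) : ∃ (d : Γ(X, U)) (n : ℕ), c * res h f ^ n = res h d := by
  subst hW
  have := hU.isLocalization_basicOpen f
  obtain ⟨n, d, hd⟩ := IsLocalization.Away.surj f c
  exact ⟨d, n, hd⟩

/-- A section killed on a basic open of an affine open is killed by a power of the function. -/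
lemma exists_pow_mul_eq_zero {U W : X.Opens} (hU : IsAffineOpen U) (f : Γ(X, U))
    (hW : W = X.basicOpen f) (h : W ≤ U) (x : Γ(X, U)) (hx : res h x = 0) :
    ∃ n : ℕ, f ^ n * x = 0 := by
  subst hW
  have := hU.isLocalization_basicOpen f
  obtain ⟨⟨_, n, rfl⟩, hn⟩ := (IsLocalization.map_eq_zero_iff (Submonoid.powers f) _ x).mp hx
  exact ⟨n, hn⟩

/-- A cover of `Y` by finitely many affine opens lying over basic opens of the affine scheme `Z`. -/
lemma exists_setup (t : Z ⟶ Y) [IsClosedImmersion t] [Surjective t] [IsAffine Z] :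
    ∃ (ι : Type u) (_ : Fintype ι) (U : ι → Y.affineOpens) (h : ι → Γ(Z, ⊤)),
      Ideal.span (Set.range h) = ⊤ ∧ ∀ k, t ⁻¹ᵁ (U k).1 = Z.basicOpen (h k) := by
  classical
  let S : Set Γ(Z, ⊤) := {h | ∃ U : Y.affineOpens, t ⁻¹ᵁ U.1 = Z.basicOpen h}
  have hcov : (⊤ : Z.Opens) ≤ ⨆ h : S, Z.basicOpen h.1 := by
    intro z _
    obtain ⟨_, ⟨U, hU, rfl⟩, hzU, -⟩ := Y.isBasis_affineOpens.exists_subset_of_mem_open
      (Set.mem_univ (t z)) isOpen_univ
    obtain ⟨h, hle, hzh⟩ := (isAffineOpen_top Z).exists_basicOpen_le (V := t ⁻¹ᵁ U)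
      ⟨z, hzU⟩ trivial
    obtain ⟨l, hl⟩ := t.app_surjective U hU (res (U := ⊤) le_top h)
    refine Opens.mem_iSup.mpr ⟨⟨h, ⟨⟨Y.basicOpen l, hU.basicOpen l⟩, ?_⟩⟩, hzh⟩
    change t ⁻¹ᵁ Y.basicOpen l = _
    rw [Scheme.preimage_basicOpen]
    erw [hl]
    rw [basicOpen_res', inf_eq_right.mpr hle]
  have hspan : Ideal.span S = ⊤ := (isAffineOpen_top Z).self_le_iSup_basicOpen_iff.mp hcov
  obtain ⟨s, hsS, hs⟩ := (Ideal.span_eq_top_iff_finite S).mp hspan
  refine ⟨s, inferInstance, fun k => (hsS k.2).choose, fun k => k.1, ?_,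
    fun k => (hsS k.2).choose_spec⟩
  rw [show Set.range (fun k : s => k.1) = (s : Set Γ(Z, ⊤)) from Subtype.range_coe]
  exact hs

lemma le_iSup_of_setup (t : Z ⟶ Y) [Surjective t] [IsAffine Z] {ι : Type*} {U : ι → Y.Opens}
    {h : ι → Γ(Z, ⊤)} (hspan : Ideal.span (Set.range h) = ⊤)
    (hU : ∀ k, t ⁻¹ᵁ U k = Z.basicOpen (h k)) : (⊤ : Y.Opens) ≤ ⨆ k, U k := by
  intro y _
  obtain ⟨z, rfl⟩ := t.surjective y
  have := (isAffineOpen_top Z).self_le_iSup_basicOpen_iff.mpr hspan (show z ∈ (⊤ : Z.Opens) from trivial)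
  obtain ⟨⟨_, k, rfl⟩, hk⟩ := Opens.mem_iSup.mp this
  exact Opens.mem_iSup.mpr ⟨k, (SetLike.ext_iff.mp (hU k) z).mpr hk⟩

/-- Criterion: lifts of a partition of unity. -/
lemma isAffine_of_lifts (t : Z ⟶ Y) [Surjective t] {ι : Type*} [Fintype ι] {U : ι → Y.affineOpens}
    (l a : ι → Γ(Y, ⊤)) (hsum : IsUnit (∑ k, a k * l k))
    (hD : ∀ k, Z.basicOpen (t.appTop (l k)) = t ⁻¹ᵁ (U k).1) : IsAffine Y := by
  refine isAffine_of_isAffineOpen_basicOpen (Set.range l) ?_ ?_
  · refine Ideal.eq_top_of_isUnit_mem _ ?_ hsum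
    exact Submodule.sum_mem _ fun k _ => Ideal.mul_mem_left _ _ (Ideal.subset_span ⟨k, rfl⟩)
  · rintro _ ⟨k, rfl⟩
    rw [show Y.basicOpen (l k) = (U k).1 from preimage_injective t
      ((Scheme.preimage_basicOpen t (l k)).trans (hD k))]
    exact (U k).2

end GrothLib.Thickening
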