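import Groth.Agent.Lib.Thickening.SquareZero
import Groth.Agent.Lib.FSchSys.Ker
import Mathlib.AlgebraicGeometry.Morphisms.Separated

/-!
# A finite order thickening of an affine scheme is affine
-/

universe u

open CategoryTheory Limits AlgebraicGeometry TopologicalSpace

namespace GrothLib.Thickening

variable {Y Z : Scheme.{u}}

lemma surjective_subschemeι_of_pow_eq_bot {I : Y.IdealSheafData} {n : ℕ} (h : I ^ n = ⊥)
    (hn : n ≠ 0) : Surjective I.subschemeι := by
  rw [FSchSys.surjective_subschemeι_iff, ← Scheme.IdealSheafData.support_pow I n hn, h]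
  simp

lemma isAffine_of_subscheme (k : ℕ) : ∀ (I : Y.IdealSheafData), I ^ 2 ^ k = ⊥ →
    IsAffine I.subscheme → IsAffine Y := by
  induction k with
  | zero =>
    intro I hI hA
    rw [pow_zero, pow_one] at hI
    subst hI
    exact .of_isIso (inv (⊥ : Y.IdealSheafData).subschemeι)
  | succ k ih =>
    intro I hI hA
    have hJ : (I ^ 2) ^ 2 ^ k = ⊥ := by rw [← pow_mul, ← pow_succ']; exact hI
    refine ih (I ^ 2) hJ ?_
    have hle : I ^ 2 ≤ I := by
      conv_rhs => rw [← pow_one I]
      exact pow_le_pow_of_le_one bot_le le_top (by omega)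
    have := surjective_subschemeι_of_pow_eq_bot hI (by positivity)
    let t := Scheme.IdealSheafData.inclusion hle
    have ht : t ≫ (I ^ 2).subschemeι = I.subschemeι := Scheme.IdealSheafData.inclusion_subschemeι _
    have : Surjective t := ⟨fun z => by
      obtain ⟨w, hw⟩ := I.subschemeι.surjective ((I ^ 2).subschemeι z)
      refine ⟨w, (I ^ 2).subschemeι.isClosedEmbedding.injective ?_⟩
      rw [← hw, ← Scheme.Hom.comp_apply, ht]⟩
    refine isAffine_of_sq_eq_bot t ?_
    rw [FSchSys.ker_eq_comap_of_comp_eq ht, Scheme.IdealSheafData.ker_subschemeι,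
      ← FSchSys.comap_pow, FSchSys.comap_subschemeι_self]

/-- A finite order thickening of an affine scheme is affine. -/
lemma isAffine_of_pow_eq_bot (t : Z ⟶ Y) [IsClosedImmersion t] [IsAffine Z] {n : ℕ}
    (h : t.ker ^ n = ⊥) : IsAffine Y := by
  refine isAffine_of_subscheme n t.ker ?_ ?_
  · refine le_bot_iff.mp ?_
    rw [← h]
    exact pow_le_pow_of_le_one bot_le le_top Nat.lt_two_pow_self.le
  · exact IsAffine.of_isIso (inv t.toImage)

end GrothLib.Thickening
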