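import Groth.Agent.Lib.Thickening.Basic

/-!
# A square zero thickening of an affine scheme is affine
-/

universe u

open CategoryTheory Limits AlgebraicGeometry Opposite TopologicalSpace

namespace GrothLib.Thickening

variable {Y Z : Scheme.{u}}

lemma mul_eq_zero_of_app_eq_zero (t : Z ⟶ Y) [IsClosedImmersion t] (h2 : t.ker ^ 2 = ⊥)
    {W : Y.Opens} (hW : IsAffineOpen W) {a b : Γ(Y, W)} (ha : t.app W a = 0) (hb : t.app W b = 0) :
    a * b = 0 := by
  have h : t.ker.ideal ⟨W, hW⟩ ^ 2 = ⊥ := by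
    simpa using congr($(congrArg Scheme.IdealSheafData.ideal h2) ⟨W, hW⟩)
  have hm := Ideal.mul_mem_mul (show a ∈ t.ker.ideal ⟨W, hW⟩ by rw [t.ker_apply]; exact ha)
    (show b ∈ t.ker.ideal ⟨W, hW⟩ by rw [t.ker_apply]; exact hb)
  rwa [← sq, h, Ideal.mem_bot] at hm

lemma mul_congr (t : Z ⟶ Y) [IsClosedImmersion t] (h2 : t.ker ^ 2 = ⊥) {W : Y.Opens}
    (hW : IsAffineOpen W) {x y e : Γ(Y, W)} (hxy : t.app W x = t.app W y) (he : t.app W e = 0) :
    x * e = y * e := by
  rw [← sub_eq_zero, ← sub_mul]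
  exact mul_eq_zero_of_app_eq_zero t h2 hW (by rw [map_sub, hxy, sub_self]) he

set_option maxHeartbeats 800000 in
/-- Global sections lift along a square zero thickening of an affine scheme. -/
lemma surjective_appTop (t : Z ⟶ Y) [IsClosedImmersion t] [Surjective t] [IsAffine Z]
    (h2 : t.ker ^ 2 = ⊥) : Function.Surjective t.appTop := by
  intro g
  obtain ⟨ι, _, U, h, hspan, hU⟩ := exists_setup t
  -- lifts of the `h m` and of `g` on each `U k`
  choose L hL using fun k m => t.app_surjective (U k).1 (U k).2 (res (U := ⊤) le_top (h m))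
  choose G hG using fun k => t.app_surjective (U k).1 (U k).2 (res (U := ⊤) le_top g)
  let W : ι → ι → Y.Opens := fun k m => (U k).1 ⊓ (U m).1
  have hWl : ∀ k m, W k m ≤ (U k).1 := fun k m => inf_le_left
  have hWr : ∀ k m, W k m ≤ (U m).1 := fun k m => inf_le_right
  have hWL : ∀ k m, W k m = Y.basicOpen (L k m) := fun k m => by
    apply preimage_injective t
    rw [Scheme.preimage_basicOpen, hL, basicOpen_res', ← hU m]
    rfl
  have hWa : ∀ k m, IsAffineOpen (W k m) := fun k m => hWL k m ▸ (U k).2.basicOpen _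
  have hker : ∀ {V : Y.Opens} {k : ι} (hV : V ≤ (U k).1) (x : Γ(Y, (U k).1)),
      t.app _ x = 0 → t.app V (res hV x) = 0 := fun hV x hx => by rw [app_res, hx, map_zero]
  -- the cocycle of differences
  let c : ∀ k m, Γ(Y, W k m) := fun k m => res (hWl k m) (G k) - res (hWr k m) (G m)
  have hc : ∀ k m, t.app _ (c k m) = 0 := fun k m => by
    simp only [c, map_sub, app_res, hG, res_res, sub_self]
  -- it is divisible by a power
  have hdiv : ∀ k m, ∃ (d : Γ(Y, (U k).1)) (n : ℕ), t.app _ d = 0 ∧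
      c k m * res (hWl k m) (L k m) ^ n = res (hWl k m) d := by
    intro k m
    obtain ⟨d, n, hd⟩ := exists_res_mul (U k).2 (L k m) (hWL k m) (hWl k m) (c k m)
    have h0 : res (t.preimage_mono (hWl k m)) (t.app _ d) = 0 := by
      rw [← app_res t (hWl k m), ← hd, map_mul, hc, zero_mul]
    obtain ⟨p, hp⟩ := exists_pow_mul_eq_zero ((U k).2.preimage t) (t.app _ (L k m))
      (by rw [← Scheme.preimage_basicOpen, ← hWL]) (t.preimage_mono (hWl k m)) _ h0
    refine ⟨L k m ^ p * d, n + p, by rw [map_mul, map_pow, hp], ?_⟩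
    rw [map_mul, map_pow, ← hd, pow_add]; ring
  choose d₀ n₀ hd₀ hcd₀ using hdiv
  let N : ℕ := ∑ k, ∑ m, n₀ k m
  have hn₀ : ∀ k m, n₀ k m ≤ N := fun k m =>
    (Finset.single_le_sum (f := fun m => n₀ k m) (fun _ _ => Nat.zero_le _) (Finset.mem_univ m)).trans
      (Finset.single_le_sum (f := fun k => ∑ m, n₀ k m) (fun _ _ => Nat.zero_le _) (Finset.mem_univ k))
  obtain ⟨d, hd, hcd⟩ : ∃ d : ∀ k (m : ι), Γ(Y, (U k).1), (∀ k m, t.app _ (d k m) = 0) ∧
      ∀ k m, c k m * res (hWl k m) (L k m) ^ N = res (hWl k m) (d k m) := by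
    refine ⟨fun k m => L k m ^ (N - n₀ k m) * d₀ k m, fun k m => ?_, fun k m => ?_⟩
    · simp only [map_mul, hd₀, mul_zero]
    · simp only [map_mul, map_pow, ← hcd₀]
      rw [mul_left_comm, ← pow_add, Nat.sub_add_cancel (hn₀ k m)]
  -- the cocycle identity up to a power
  have hcoc : ∀ k m l, ∃ P : ℕ, res (hWl k m) (L k l) ^ P * (res (hWl k m) (d k l) -
      res (hWr k m) (d m l) - c k m * res (hWl k m) (L k l) ^ N) = 0 := by
    intro k m l
    let V : Y.Opens := W k m ⊓ W k l
    have hV : V = Y.basicOpen (res (hWl k m) (L k l)) := by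
      rw [basicOpen_res', ← hWL]
    refine exists_pow_mul_eq_zero (hWa k m) _ hV inf_le_left _ ?_
    have hVa : IsAffineOpen V := hV ▸ (hWa k m).basicOpen _
    have hkl : V ≤ W k l := inf_le_right
    have hml : V ≤ W m l := le_inf (inf_le_left.trans (hWr k m)) (inf_le_right.trans (hWr k l))
    have e1 := congrArg (res hkl) (hcd k l)
    have e2 := congrArg (res hml) (hcd m l)
    simp only [map_mul, map_pow, res_res] at e1 e2
    rw [map_sub, map_sub, map_mul, map_pow, res_res, res_res, res_res, ← e1, ← e2,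
      mul_comm (res hml (c m l)), mul_congr t h2 hVa (e := res hml (c m l))
        (x := res (hml.trans (hWl m l)) (L m l) ^ N)
        (y := res (inf_le_left.trans (hWl k m)) (L k l) ^ N) ?_ (by rw [app_res, hc, map_zero])]
    · simp only [c, map_sub, res_res]; ring
    · simp only [map_pow, app_res, hL, res_res]
  choose P₀ hP₀ using hcoc
  let P : ℕ := ∑ k, ∑ m, ∑ l, P₀ k m l
  have hP : ∀ k m l, P₀ k m l ≤ P := fun k m l =>
    (Finset.single_le_sum (f := fun l => P₀ k m l) (fun _ _ => Nat.zero_le _) (Finset.mem_univ l)).trans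
      ((Finset.single_le_sum (f := fun m => ∑ l, P₀ k m l) (fun _ _ => Nat.zero_le _)
        (Finset.mem_univ m)).trans (Finset.single_le_sum (f := fun k => ∑ m, ∑ l, P₀ k m l)
          (fun _ _ => Nat.zero_le _) (Finset.mem_univ k)))
  -- partition of unity
  obtain ⟨a, ha⟩ : ∃ a : ι → Γ(Z, ⊤), ∑ l, a l * h l ^ (N + P) = 1 := by
    have := Ideal.span_pow_eq_top (Set.range h) hspan (N + P)
    rw [← Set.range_comp, Ideal.eq_top_iff_one, Ideal.mem_span_range_iff_exists_fun] at this
    exact this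
  choose A hA using fun k l => t.app_surjective (U k).1 (U k).2 (res (U := ⊤) le_top (a l))
  let e : ∀ k, Γ(Y, (U k).1) := fun k => ∑ l, A k l * L k l ^ P * d k l
  have he : ∀ k, t.app _ (e k) = 0 := fun k => by simp [e, hd]
  have hed : ∀ k m, res (hWl k m) (G k - e k) = res (hWr k m) (G m - e m) := by
    intro k m
    suffices hs : res (hWl k m) (e k) - res (hWr k m) (e m) = c k m by
      simp only [c] at hs; rw [map_sub, map_sub]; linear_combination -hs
    have hterm : ∀ l, res (hWr k m) (A m l * L m l ^ P * d m l) =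
        res (hWl k m) (A k l * L k l ^ P) * res (hWr k m) (d m l) := fun l => by
      rw [map_mul _ (A m l * L m l ^ P)]
      refine mul_congr t h2 (hWa k m) ?_ (hker _ _ (hd m l))
      simp only [map_mul, map_pow, app_res, hL, hA, res_res]
    have hterm' : ∀ l, res (hWl k m) (A k l * L k l ^ P * d k l) -
        res (hWr k m) (A m l * L m l ^ P * d m l) =
        res (hWl k m) (A k l) * res (hWl k m) (L k l) ^ (N + P) * c k m := fun l => by
      have h1 : res (hWl k m) (L k l) ^ P * (res (hWl k m) (d k l) - res (hWr k m) (d m l) -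
          c k m * res (hWl k m) (L k l) ^ N) = 0 := by
        rw [← Nat.sub_add_cancel (hP k m l), pow_add, mul_assoc, hP₀, mul_zero]
      rw [hterm, map_mul _ (A k l * L k l ^ P), map_mul, map_pow, pow_add]
      linear_combination res (hWl k m) (A k l) * h1
    simp only [e, map_sum, ← Finset.sum_sub_distrib, hterm', ← Finset.sum_mul]
    conv_rhs => rw [← one_mul (c k m)]
    refine mul_congr t h2 (hWa k m) ?_ (hc k m)
    simp only [map_sum, map_mul, map_pow, map_one, app_res, hL, hA, res_res]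
    simp only [← map_pow, ← map_mul, ← map_sum, ha, map_one]
  have hcompat : TopCat.Presheaf.IsCompatible Y.presheaf (fun k => (U k).1)
      (fun k => G k - e k) := fun k m => hed k m
  obtain ⟨s, hs, -⟩ := TopCat.Sheaf.existsUnique_gluing' Y.sheaf (fun k => (U k).1) ⊤
    (fun k => homOfLE le_top) (le_iSup_of_setup t hspan hU) _ hcompat
  refine ⟨s, ?_⟩
  refine TopCat.Sheaf.eq_of_locally_eq' Z.sheaf (fun k => t ⁻¹ᵁ (U k).1) ⊤
    (fun k => homOfLE le_top) ?_ _ _ fun k => ?_
  · intro z _
    obtain ⟨k, hk⟩ := Opens.mem_iSup.mp (le_iSup_of_setup t hspan hU (show t z ∈ ⊤ from trivial))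
    exact Opens.mem_iSup.mpr ⟨k, hk⟩
  · have hsk : res le_top s = G k - e k := hs k
    change res le_top (t.app ⊤ s) = res le_top g
    rw [← hG, ← sub_zero (t.app _ (G k)), ← he k, ← map_sub, ← hsk, app_res]
    rfl

/-- A square zero thickening of an affine scheme is affine. -/
lemma isAffine_of_sq_eq_bot (t : Z ⟶ Y) [IsClosedImmersion t] [Surjective t] [IsAffine Z]
    (h2 : t.ker ^ 2 = ⊥) : IsAffine Y := by
  obtain ⟨ι, _, U, h, hspan, hU⟩ := exists_setup t
  have hsurj := surjective_appTop t h2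
  rw [Ideal.eq_top_iff_one, Ideal.mem_span_range_iff_exists_fun] at hspan
  obtain ⟨a, ha⟩ := hspan
  choose l hl using fun k => hsurj (h k)
  choose a' ha' using fun k => hsurj (a k)
  refine isAffine_of_lifts t (U := U) l a' ?_ fun k => by rw [hl, hU]
  have h0 : t.appTop ((∑ k, a' k * l k) - 1) = 0 := by simp [ha', hl, ha]
  suffices hn : ((∑ k, a' k * l k) - 1) * ((∑ k, a' k * l k) - 1) = 0 by
    have := (show IsNilpotent ((∑ k, a' k * l k) - 1) from ⟨2, by rw [sq, hn]⟩).isUnit_one_add
    simpa using this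
  refine TopCat.Sheaf.eq_of_locally_eq' Y.sheaf (fun k => (U k).1) ⊤
    (fun k => homOfLE le_top) (le_iSup_of_setup t (Ideal.eq_top_iff_one _ |>.mpr
      (Ideal.mem_span_range_iff_exists_fun.mpr ⟨a, ha⟩)) hU) _ _ fun k => ?_
  change res le_top _ = res le_top _
  have hz : t.app (U k).1 (res le_top ((∑ k, a' k * l k) - 1)) = 0 := by
    rw [app_res]; erw [h0]; exact map_zero _
  rw [map_mul, mul_eq_zero_of_app_eq_zero t h2 (U k).2 hz hz, map_zero]

end GrothLib.Thickening
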